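import Cfsg.Agent.Spor.Cert
import Cfsg.Agent.Spor.LyUP.C0

set_option autoImplicit false
set_option maxRecDepth 100000000
set_option Elab.async false

namespace Cfsg.Agent.Spor.LyUP

theorem hT : T.Ok 9 := T.ok_of 9 (show AllP (fun n => Net.okb 9 n = true) [n0, n1, n2, n3, n4, n5, n6] from AllP.cons ok0 (AllP.cons ok1 (AllP.cons ok2 (AllP.cons ok3 (AllP.cons ok4 (AllP.cons ok5 (AllP.cons ok6 (AllP.nil))))))))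

noncomputable def fP : ℕ → Equiv.Perm ℕ := T.fP gs

theorem hsq : ∀ j < 5, j < 7 → T.fP gs j * T.fP gs j = 1 :=
  Tab.sq (show AllP (fun z => evA T.τ [z, z] = 1) [1, 2, 3, 4, 5] from AllP.cons (hT.one rel0) (AllP.cons (hT.one rel1) (AllP.cons (hT.one rel2) (AllP.cons (hT.one rel3) (AllP.cons (hT.one rel4) (AllP.nil)))))) 7 rfl

theorem hiv : IvOk (2 * 5) (atm 7 (T.fP gs)) := ivOk_atm hsq

theorem pz1 : PZ T (atm 7 (T.fP gs)) EX 1 := PZ.of_atom (y := 2 * 0) (by decide +kernel) (atm_two_mul _ (by decide))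
theorem pz2 : PZ T (atm 7 (T.fP gs)) EX 2 := PZ.of_atom (y := 2 * 1) (by decide +kernel) (atm_two_mul _ (by decide))
theorem pz3 : PZ T (atm 7 (T.fP gs)) EX 3 := PZ.of_atom (y := 2 * 2) (by decide +kernel) (atm_two_mul _ (by decide))
theorem pz4 : PZ T (atm 7 (T.fP gs)) EX 4 := PZ.of_atom (y := 2 * 3) (by decide +kernel) (atm_two_mul _ (by decide))
theorem pz5 : PZ T (atm 7 (T.fP gs)) EX 5 := PZ.of_atom (y := 2 * 4) (by decide +kernel) (atm_two_mul _ (by decide))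
theorem pz6 : PZ T (atm 7 (T.fP gs)) EX 6 := PZ.of_atom (y := 2 * 5) (by decide +kernel) (atm_two_mul _ (by decide))
theorem pz7 : PZ T (atm 7 (T.fP gs)) EX 7 := PZ.of_atom (y := 2 * 6) (by decide +kernel) (atm_two_mul _ (by decide))
theorem pz8 : PZ T (atm 7 (T.fP gs)) EX 8 := PZ.of_inv hiv pz6 (by decide +kernel)
theorem pz9 : PZ T (atm 7 (T.fP gs)) EX 9 := PZ.of_inv hiv pz7 (by decide +kernel)
theorem hPZ : AllP (PZ T (atm 7 (T.fP gs)) EX) L :=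
  show AllP (PZ T (atm 7 (T.fP gs)) EX) [1, 2, 3, 4, 5, 6, 7, 8, 9] from AllP.cons pz1 (AllP.cons pz2 (AllP.cons pz3 (AllP.cons pz4 (AllP.cons pz5 (AllP.cons pz6 (AllP.cons pz7 (AllP.cons pz8 (AllP.cons pz9 (AllP.nil)))))))))

theorem hrel : ∀ l ∈ RL, ev (atm 7 (T.fP gs)) l = 1 :=
  relAll_sound hiv (W := [[6, 6, 6], [2, 6, 2, 6], [3, 6, 3, 6, 3, 6], [1, 2, 3, 6, 1, 6, 3, 2], [2, 3, 2, 3, 2, 3, 6, 3, 2, 3, 2, 3, 2, 3, 6, 3], [1, 2, 8, 4, 6, 1, 4, 2], [1, 2, 1, 2], [3, 4, 2, 3, 2, 3, 2, 3, 2, 4], [4, 1, 2, 3, 6, 3, 2, 4, 8, 3, 2, 3, 2, 3, 6], [4, 1, 4, 6, 4, 8, 1], [4, 1, 2, 4, 1, 2, 4, 2, 1, 4, 6, 2], [2, 8, 5, 2, 5], [3, 5, 3, 5], [6, 5, 6, 5], [5, 1, 5, 1, 5, 1], [5, 4, 5, 4, 5, 4, 5, 4, 5, 4], [5, 1, 4, 1, 5, 1, 4, 1, 5, 1, 4, 1, 5, 1, 4, 1, 5, 1, 4, 1], [7]]) (rules := [⟨[6, 6, 6], [], 0, true⟩, ⟨[2,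 6, 2, 6], [], 1, true⟩, ⟨[3, 6, 3, 6, 3, 6], [], 2, true⟩, ⟨[1, 2, 3, 6, 1, 6, 3, 2], [], 3, true⟩, ⟨[2, 3, 2, 3, 2, 3, 6, 3, 2, 3, 2, 3, 2, 3, 6, 3], [], 4, true⟩, ⟨[1, 2, 8, 4, 6, 1, 4, 2], [], 5, true⟩, ⟨[1, 2, 1, 2], [], 6, true⟩, ⟨[3, 4, 2, 3, 2, 3, 2, 3, 2, 4], [], 7, true⟩, ⟨[4, 1, 2, 3, 6, 3, 2, 4, 8, 3, 2, 3, 2, 3, 6], [], 8, true⟩, ⟨[4, 1, 4, 6, 4, 8, 1], [], 9, true⟩, ⟨[4, 1, 2, 4, 1, 2, 4, 2, 1, 4, 6, 2], [], 10, true⟩, ⟨[2, 8, 5, 2, 5], [], 11, true⟩, ⟨[3, 5, 3, 5], [], 12, true⟩, ⟨[6, 5, 6, 5], [], 13, true⟩, ⟨[5, 1, 5, 1, 5, 1], [], 14, true⟩, ⟨[5, 4, 5, 4, 5, 4, 5, 4, 5, 4], [], 15, true⟩, ⟨[5, 1, 4, 1, 5, 1, 4, 1, 5, 1, 4, 1, 5, 1, 4, 1, 5, 1, 4, 1], [], 16, true⟩, ⟨[7], [], 17, true⟩]) hPZ (AllP.cons (hT.one rel5) (AllP.cons (hT.one rel6) (AllP.cons (hT.one rel7) (AllP.cons (hT.one rel8)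 (AllP.cons (hT.one rel9) (AllP.cons (hT.one rel10) (AllP.cons (hT.one rel11) (AllP.cons (hT.one rel12) (AllP.cons (hT.one rel13) (AllP.cons (hT.one rel14) (AllP.cons (hT.one rel15) (AllP.cons (hT.one rel16) (AllP.cons (hT.one rel17) (AllP.cons (hT.one rel18) (AllP.cons (hT.one rel19) (AllP.cons (hT.one rel20) (AllP.cons (hT.one rel21) (AllP.cons (hT.one rel22) (AllP.nil))))))))))))))))))) (by decide +kernel)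

theorem pres : Pres 7 5 RL fP := ⟨hsq, hrel⟩

end Cfsg.Agent.Spor.LyUP
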